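import Mathlib

/-!
Divisibility by powers of principal primes in a commutative ring.
-/

set_option autoImplicit false

universe u

namespace Groth.Agent.DivPart

variable {R : Type u} [CommRing R]

theorem mem_span_pow_of_mul_mem {π : R} (hπ : π ∈ nonZeroDivisors R) (hp : (Ideal.span {π}).IsPrime)
    {s f : R} (hs : s ∉ Ideal.span ({π} : Set R)) (a : ℕ) (h : s * f ∈ Ideal.span ({π ^ a} : Set R)) :
    f ∈ Ideal.span ({π ^ a} : Set R) := by
  induction a with
  | zero => rw [pow_zero, Ideal.span_singleton_one]; trivial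
  | succ a ih =>
    have hle : Ideal.span ({π ^ (a + 1)} : Set R) ≤ Ideal.span {π ^ a} :=
      Ideal.span_singleton_le_span_singleton.mpr (pow_dvd_pow π a.le_succ)
    obtain ⟨g, hg⟩ := Ideal.mem_span_singleton.mp h
    obtain ⟨k, rfl⟩ := Ideal.mem_span_singleton.mp (ih (hle h))
    have h1 : π ^ a * (s * k - π * g) = 0 := by rw [mul_sub, mul_left_comm, hg]; ring
    have h2 : s * k - π * g = 0 := (mem_nonZeroDivisors_iff_left.mp (pow_mem hπ a)) _ h1
    have h3 : s * k ∈ Ideal.span ({π} : Set R) := Ideal.mem_span_singleton.mpr ⟨g, by rw [sub_eq_zero.mp h2]⟩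
    obtain ⟨r, rfl⟩ := Ideal.mem_span_singleton.mp ((hp.mem_or_mem h3).resolve_left hs)
    exact Ideal.mem_span_singleton.mpr ⟨r, by rw [pow_succ]; ring⟩

theorem eq_of_span_le [IsLocalRing R] {π ρ : R} (hπ : π ∈ nonZeroDivisors R)
    (hp : (Ideal.span {π}).IsPrime) (hρ : ¬ IsUnit ρ) (h : Ideal.span ({π} : Set R) ≤ Ideal.span {ρ}) :
    Ideal.span ({π} : Set R) = Ideal.span {ρ} := by
  refine le_antisymm h ((Ideal.span_singleton_le_iff_mem _).mpr ?_)
  obtain ⟨r, hr⟩ := Ideal.mem_span_singleton.mp (h (Ideal.mem_span_singleton_self π))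
  rcases hp.mem_or_mem (hr ▸ Ideal.mem_span_singleton_self π : ρ * r ∈ Ideal.span ({π} : Set R)) with h' | h'
  · exact h'
  · exfalso
    obtain ⟨t, ht⟩ := Ideal.mem_span_singleton.mp h'
    have h1 : π * (1 - ρ * t) = 0 := by rw [mul_sub, mul_one, sub_eq_zero]; conv_lhs => rw [hr, ht]
                                        ring
    exact hρ (IsUnit.of_mul_eq_one t (sub_eq_zero.mp ((mem_nonZeroDivisors_iff_left.mp hπ) _ h1)).symm)

theorem mem_span_prod_of_local {ι : Type*} (J : Finset ι) (π : ι → R) (a : ι → ℕ)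
    (hπ : ∀ j ∈ J, π j ∈ nonZeroDivisors R) (hp : ∀ j ∈ J, (Ideal.span {π j}).IsPrime)
    (hne : ∀ j ∈ J, ∀ k ∈ J, j ≠ k → π k ∉ Ideal.span ({π j} : Set R)) (f : R)
    (hf : ∀ j ∈ J, ∃ u, u ∉ Ideal.span ({π j} : Set R) ∧ u * f ∈ Ideal.span ({π j ^ a j} : Set R)) :
    f ∈ Ideal.span ({∏ j ∈ J, π j ^ a j} : Set R) := by
  classical
  induction J using Finset.induction_on generalizing f with
  | empty => rw [Finset.prod_empty, Ideal.span_singleton_one]; trivial
  | insert k J hk ih =>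
    obtain ⟨u, hu, huf⟩ := hf k (Finset.mem_insert_self k J)
    obtain ⟨g, rfl⟩ := Ideal.mem_span_singleton.mp
      (mem_span_pow_of_mul_mem (hπ k (Finset.mem_insert_self k J)) (hp k (Finset.mem_insert_self k J)) hu (a k) huf)
    have := ih (fun j hj => hπ j (Finset.mem_insert_of_mem hj)) (fun j hj => hp j (Finset.mem_insert_of_mem hj))
      (fun j hj l hl => hne j (Finset.mem_insert_of_mem hj) l (Finset.mem_insert_of_mem hl)) g fun j hj => by
        have hjk : j ≠ k := fun h => hk (h ▸ hj)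
        obtain ⟨v, hv, hvf⟩ := hf j (Finset.mem_insert_of_mem hj)
        refine ⟨v * π k ^ a k, fun h => ?_, by rwa [mul_assoc]⟩
        rcases (hp j (Finset.mem_insert_of_mem hj)).mem_or_mem h with h' | h'
        · exact hv h'
        · exact hne j (Finset.mem_insert_of_mem hj) k (Finset.mem_insert_self k J) hjk
            ((hp j (Finset.mem_insert_of_mem hj)).mem_of_pow_mem _ h')
    obtain ⟨r, rfl⟩ := Ideal.mem_span_singleton.mp this
    exact Ideal.mem_span_singleton.mpr ⟨r, by rw [Finset.prod_insert hk, mul_assoc]⟩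

/-- ideals of a local ring with principal maximal ideal -/
theorem exists_eq_span_pow [IsNoetherianRing R] [IsLocalRing R] {π : R}
    (hπ : IsLocalRing.maximalIdeal R = Ideal.span {π}) {I : Ideal R} (hI : I ≠ ⊥) :
    ∃ n : ℕ, I = Ideal.span ({π ^ n} : Set R) := by
  classical
  have hpow : ∀ n : ℕ, IsLocalRing.maximalIdeal R ^ n = Ideal.span {π ^ n} := fun n => by
    rw [hπ, Ideal.span_singleton_pow]
  obtain ⟨N, hN⟩ : ∃ n, ¬ I ≤ IsLocalRing.maximalIdeal R ^ n := by
    by_contra h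
    push Not at h
    exact hI (le_bot_iff.mp ((le_iInf h).trans
      (Ideal.iInf_pow_eq_bot_of_isLocalRing _ (IsLocalRing.maximalIdeal.isMaximal R).ne_top).le))
  have hex : ∃ n, ¬ I ≤ IsLocalRing.maximalIdeal R ^ n := ⟨N, hN⟩
  obtain ⟨m, hm⟩ : ∃ m, Nat.find hex = m + 1 :=
    Nat.exists_eq_succ_of_ne_zero fun h0 => Nat.find_spec hex (by rw [h0, pow_zero, Ideal.one_eq_top]; exact le_top)
  have hle : I ≤ IsLocalRing.maximalIdeal R ^ m := not_not.mp (Nat.find_min hex (by omega))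
  refine ⟨m, le_antisymm (hle.trans (hpow m).le) ((Ideal.span_singleton_le_iff_mem _).mpr ?_)⟩
  obtain ⟨f, hf, hf'⟩ := SetLike.not_le_iff_exists.mp (hm ▸ Nat.find_spec hex)
  obtain ⟨r, rfl⟩ := Ideal.mem_span_singleton.mp ((hpow m) ▸ hle hf)
  have hr : IsUnit r := by
    by_contra hr
    obtain ⟨s, rfl⟩ := Ideal.mem_span_singleton.mp
      (hπ ▸ (IsLocalRing.mem_maximalIdeal r).mpr hr : r ∈ Ideal.span ({π} : Set R))
    exact hf' ((hpow (m + 1)) ▸ Ideal.mem_span_singleton.mpr ⟨s, by rw [pow_succ]; ring⟩)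
  exact (Ideal.mul_unit_mem_iff_mem _ hr).mp hf

/-- a finitely generated ideal inside another at a prime is so after multiplying by one element -/
theorem exists_mul_le {S : Type u} [CommRing S] [Algebra R S] (q : Ideal R) [q.IsPrime]
    [IsLocalization.AtPrime S q] {I K : Ideal R} (hK : K.FG)
    (h : K.map (algebraMap R S) ≤ I.map (algebraMap R S)) : ∃ s, s ∉ q ∧ ∀ a ∈ K, s * a ∈ I := by
  classical
  obtain ⟨T, rfl⟩ := hK
  have hT : ∀ t ∈ T, ∃ s ∉ q, s * t ∈ I := fun t ht => by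
    obtain ⟨s, hs, hmem⟩ := (IsLocalization.algebraMap_mem_map_algebraMap_iff q.primeCompl S I t).1
      (h (Ideal.mem_map_of_mem _ (Ideal.subset_span ht)))
    exact ⟨s, hs, hmem⟩
  choose! s hs hmem using hT
  refine ⟨∏ t ∈ T, s t, fun hm => ?_, fun a ha => ?_⟩
  · obtain ⟨t, ht, hq⟩ := (Ideal.IsPrime.prod_mem_iff (p := q)).1 hm
    exact hs t ht hq
  · have : Ideal.span (T : Set R) ≤ I.colon {∏ t ∈ T, s t} := Ideal.span_le.2 fun t ht => by
      rw [SetLike.mem_coe, Submodule.mem_colon_singleton]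
      obtain ⟨d, hd⟩ := Finset.dvd_prod_of_mem s ht
      rw [smul_eq_mul, hd, show t * (s t * d) = d * (s t * t) by ring]
      exact I.mul_mem_left _ (hmem t ht)
    have h5 := this ha
    rwa [Submodule.mem_colon_singleton, smul_eq_mul, mul_comm] at h5

end Groth.Agent.DivPart
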