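import Mathlib

/-!
A common divisor in a factorial ring which lies in an ideal wherever the ideal is principal.
-/

set_option autoImplicit false

universe u

namespace Groth.Agent.DivPart

variable {R : Type u} [CommRing R] [IsDomain R] [UniqueFactorizationMonoid R]

/-- Finitely many elements, not all zero, have a common divisor `c` which is in the ideal they generate
at every prime at which that ideal is generated by one of its elements. -/
theorem exists_common_divisor {ι : Type*} [Fintype ι] (a : ι → R) (ha : ∃ i, a i ≠ 0) :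
    ∃ c : R, c ≠ 0 ∧ (∀ i, c ∣ a i) ∧ ∀ q : Ideal R, q.IsPrime → ∀ s ∉ q, ∀ g ∈ Ideal.span (Set.range a),
      (∀ i, g ∣ s * a i) → ∃ k ∉ q, k * c ∈ Ideal.span (Set.range a) := by
  classical
  letI := UniqueFactorizationMonoid.normalizationMonoid (α := R)
  letI := UniqueFactorizationMonoid.toNormalizedGCDMonoid R
  obtain ⟨i₀, hi₀⟩ := ha
  obtain ⟨b, hb, hb1⟩ := Finset.extract_gcd (s := Finset.univ) a ⟨i₀, Finset.mem_univ _⟩
  obtain ⟨c, hc⟩ : ∃ c : R, c = Finset.univ.gcd a := ⟨_, rfl⟩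
  have hbc : ∀ i, a i = c * b i := fun i => hc ▸ hb i (Finset.mem_univ _)
  have hc0 : c ≠ 0 := fun h => hi₀ (by rw [hbc, h, zero_mul])
  refine ⟨c, hc0, fun i => ⟨_, hbc i⟩, fun q hq s hs g hg hdvd => ?_⟩
  have hspan : Ideal.span (Set.range a) ≤ Ideal.span {c} := by
    refine Ideal.span_le.mpr ?_
    rintro _ ⟨i, rfl⟩
    exact Ideal.mem_span_singleton.mpr ⟨_, hbc i⟩
  obtain ⟨g', rfl⟩ := Ideal.mem_span_singleton.mp (hspan hg)
  refine ⟨g', fun hgq => ?_, mul_comm c g' ▸ hg⟩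
  have hg'b : ∀ i, g' ∣ s * b i := fun i => by
    have h1 := hdvd i
    rw [hbc i, ← mul_assoc, mul_comm s c, mul_assoc] at h1
    exact (mul_dvd_mul_iff_left hc0).mp h1
  -- a prime factor of `g'` inside `q` divides every `b i`
  obtain ⟨π, hπ, hπq, hπg⟩ : ∃ π, Prime π ∧ π ∈ q ∧ π ∣ g' := by
    by_cases hg0 : g' = 0
    · obtain ⟨i, hi⟩ : ∃ i, b i ≠ 0 := ⟨i₀, fun h => hi₀ (by rw [hbc, h, mul_zero])⟩
      obtain ⟨w, hw⟩ := hg'b i
      rw [hg0, zero_mul] at hw
      exact absurd ((mul_eq_zero.mp hw).resolve_right hi ▸ q.zero_mem) hs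
    obtain ⟨f, hf, hprod⟩ := UniqueFactorizationMonoid.exists_prime_factors g' hg0
    obtain ⟨u, hu⟩ := hprod
    have hmem : f.prod ∈ q := by
      rw [← hu] at hgq
      exact (Ideal.mul_unit_mem_iff_mem q u.isUnit).mp hgq
    obtain ⟨π, hπf, hπq⟩ := (hq.multiset_prod_mem_iff_exists_mem f).mp hmem
    exact ⟨π, hf π hπf, hπq, (Multiset.dvd_prod hπf).trans ⟨u, hu.symm⟩⟩
  have hπs : ¬ π ∣ s := fun h => hs (q.mem_of_dvd h hπq)
  have : π ∣ Finset.univ.gcd b :=
    Finset.dvd_gcd fun i _ => (hπ.dvd_or_dvd (hπg.trans (hg'b i))).resolve_left hπs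
  exact hπ.not_unit (isUnit_of_dvd_one (hb1 ▸ this))

end Groth.Agent.DivPart
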