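import Groth.Agent.DivPart.Basic
import Groth.Agent.DivPart.Alg
import Groth.Agent.DivPart.ExtendAlg
import Groth.Agent.BlowUpLib.Cartier
import Mathlib

/-!
Effective Cartier divisors on an open extend across points with factorial local rings.
-/

set_option autoImplicit false
set_option maxHeartbeats 1000000
set_option backward.isDefEq.respectTransparency false

universe u

open CategoryTheory AlgebraicGeometry TopologicalSpace IsLocalRing

noncomputable section

namespace Groth.Agent.DivPart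

variable {X : Scheme.{u}}

/-- the closure of an ideal sheaf on an open subscheme contains every function lying in it at each
point of the open -/
theorem mem_map_ι_of_local [IsLocallyNoetherian X] (U : X.Opens) (D : (U : Scheme.{u}).IdealSheafData)
    (W : X.affineOpens) {a : Γ(X, W.1)}
    (h : ∀ y (hy : y ∈ W.1), y ∈ U → X.presheaf.germ W.1 y hy a ∈ stI (D.map U.ι) W hy) :
    a ∈ (D.map U.ι).ideal W := by
  haveI : QuasiCompact (D.subschemeι ≫ U.ι) := inferInstance
  show a ∈ (D.subschemeι ≫ U.ι).ker.ideal W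
  rw [Scheme.Hom.ker_apply, RingHom.mem_ker]
  refine TopCat.Presheaf.section_ext D.subscheme.sheaf _ _ _ fun z hz => ?_
  simp only [map_zero]
  let f := D.subschemeι ≫ U.ι
  have hy : f z ∈ W.1 := hz
  have hyU : f z ∈ U := (D.subschemeι z).2
  obtain ⟨s, hs, hsa⟩ := (germ_mem_map_iff W hy _ a).mp (h _ hy hyU)
  have h1 : s * a ∈ (D.subschemeι ≫ U.ι).ker.ideal W := hsa
  rw [Scheme.Hom.ker_apply, RingHom.mem_ker, map_mul] at h1
  have h2 : IsUnit (D.subscheme.presheaf.germ (f ⁻¹ᵁ W.1) z hz (f.app W.1 s)) := by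
    refine (D.subscheme.mem_basicOpen _ z hz).mp ?_
    rw [← Scheme.preimage_basicOpen]
    exact (WeakAssLib.mem_primeIdealOf W.2 hy s).mpr hs
  have h3 := congrArg (fun v => D.subscheme.presheaf.germ (f ⁻¹ᵁ W.1) z hz v) h1
  simp only [map_mul, map_zero] at h3
  exact h2.mul_right_eq_zero.mp h3

theorem comap_map_ι [IsLocallyNoetherian X] (U : X.Opens) (D : (U : Scheme.{u}).IdealSheafData) :
    (D.map U.ι).comap U.ι = D := by
  refine le_antisymm (Scheme.IdealSheafData.comap_map_le D U.ι) fun V a ha => ?_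
  rw [Scheme.IdealSheafData.ideal_comap_of_isOpenImmersion, Ideal.mem_comap]
  have hV : IsAffineOpen (U.ι ⁻¹ᵁ (U.ι ''ᵁ V.1)) := by
    rw [Scheme.Hom.preimage_image_eq]; exact V.2
  rw [Scheme.IdealSheafData.ideal_map D U.ι ⟨_, V.2.image_of_isOpenImmersion U.ι⟩ hV, Ideal.mem_comap,
    ← CommRingCat.comp_apply, Scheme.Hom.appIso_inv_app]
  rw [← D.map_ideal' (U := ⟨_, hV⟩) (V := V) (eqToHom (Scheme.Hom.preimage_image_eq U.ι V.1)).op]
  exact Ideal.mem_map_of_mem _ ha

theorem exists_generator_map_ι [IsLocallyNoetherian X] (U : X.Opens) (D : (U : Scheme.{u}).IdealSheafData)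
    (hD : BlowUp.IsEffCartierIdeal D) {y : X} (hy : y ∈ U) :
    ∃ W : X.affineOpens, y ∈ W.1 ∧
      ∃ f : Γ(X, W.1), f ∈ nonZeroDivisors Γ(X, W.1) ∧ (D.map U.ι).ideal W = Ideal.span {f} := by
  obtain ⟨V, hyV, f, hf, hV⟩ := hD ⟨y, hy⟩
  let e := (U.ι.appIso V.1).commRingCatIsoToRingEquiv
  refine ⟨⟨U.ι ''ᵁ V.1, V.2.image_of_isOpenImmersion U.ι⟩, ⟨⟨y, hy⟩, hyV, rfl⟩, e.symm f, ?_, ?_⟩
  · exact MulEquivClass.map_nonZeroDivisors e.symm ▸ Submonoid.mem_map_of_mem _ hf
  · have h1 := congrArg (fun J : (U : Scheme.{u}).IdealSheafData => J.ideal V) (comap_map_ι U D)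
    simp only [Scheme.IdealSheafData.ideal_comap_of_isOpenImmersion] at h1
    rw [hV] at h1
    replace h1 : Ideal.comap e.symm.toRingHom ((D.map U.ι).ideal ⟨U.ι ''ᵁ V.1, V.2.image_of_isOpenImmersion U.ι⟩) =
        Ideal.span {f} := h1
    have h2 := congrArg (Ideal.map e.symm.toRingHom) h1
    rw [Ideal.map_comap_of_surjective e.symm.toRingHom e.symm.surjective, Ideal.map_span, Set.image_singleton] at h2
    exact h2

variable [IsLocallyNoetherian X] (U : X.Opens) (D : (U : Scheme.{u}).IdealSheafData)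
  (hD : BlowUp.IsEffCartierIdeal D)

include hD in
theorem exists_generator_at (W : X.affineOpens) {x : X} (hxW : x ∈ W.1)
    [IsDomain (X.presheaf.stalk x)] [UniqueFactorizationMonoid (X.presheaf.stalk x)] :
    ∃ c₀ S : Γ(X, W.1), S ∉ pr W hxW ∧ S * c₀ ∈ (D.map U.ι).ideal W ∧
      X.presheaf.germ W.1 x hxW c₀ ≠ 0 ∧
      stI (D.map U.ι) W hxW ≤ Ideal.span {X.presheaf.germ W.1 x hxW c₀} := by
  classical
  haveI : IsNoetherianRing Γ(X, W.1) := IsLocallyNoetherian.component_noetherian W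
  letI := TopCat.Presheaf.algebra_section_stalk X.presheaf (⟨x, hxW⟩ : W.1)
  haveI : IsLocalization.AtPrime (X.presheaf.stalk x) (pr W hxW) := W.2.isLocalization_stalk ⟨x, hxW⟩
  set I := (D.map U.ι).ideal W with hIdef
  set γ₀ := algebraMap Γ(X, W.1) (X.presheaf.stalk x) with hγ₀
  have hγeq : ∀ a, X.presheaf.germ W.1 x hxW a = γ₀ a := fun a => rfl
  obtain ⟨T, hT⟩ := IsNoetherian.noetherian I
  have hIR : stI (D.map U.ι) W hxW = Ideal.span (Set.range fun t : T => γ₀ t.1) := by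
    rw [stI, ← hIdef, ← hT, Ideal.map_span]
    congr 1
    ext w
    simp [hγeq]
  -- the ideal does not vanish at `x`
  have hne : ∃ t : T, γ₀ t.1 ≠ 0 := by
    by_contra hall
    push_neg at hall
    have hbot : I.map γ₀ ≤ (⊥ : Ideal Γ(X, W.1)).map γ₀ := by
      rw [← hT, Ideal.map_span, Ideal.span_le]
      rintro _ ⟨t, ht, rfl⟩
      rw [hall ⟨t, ht⟩]
      exact Submodule.zero_mem _
    obtain ⟨s, hs, hsI⟩ := exists_mul_le (S := X.presheaf.stalk x) (pr W hxW) (IsNoetherian.noetherian I) hbot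
    have hxs : x ∈ X.basicOpen s := (WeakAssLib.mem_primeIdealOf W.2 hxW s).mpr hs
    have hIle : ∀ y (hy : y ∈ W.1), y ∈ X.basicOpen s → stI (D.map U.ι) W hy = ⊥ := fun y hy hys => by
      refine le_bot_iff.mp (Ideal.map_le_iff_le_comap.mpr fun a ha => ?_)
      rw [Ideal.mem_comap, Submodule.mem_bot]
      have h1 := congrArg (X.presheaf.germ W.1 y hy) ((Submodule.mem_bot Γ(X, W.1)).mp (hsI a ha))
      rw [map_mul, map_zero] at h1
      exact ((X.mem_basicOpen s y hy).mp hys).mul_right_eq_zero.mp h1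
    have hnoU : ∀ y ∈ X.basicOpen s, y ∉ U := fun y hys hyU => by
      have hy : y ∈ W.1 := X.basicOpen_le s hys
      obtain ⟨W', hyW', f, hf, hW'⟩ := exists_generator_map_ι U D hD hyU
      have h0 := hIle y hy hys
      rw [stI_eq (D.map U.ι) W W' hy hyW', stI, hW', Ideal.map_span, Set.image_singleton,
        Ideal.span_singleton_eq_bot] at h0
      letI := TopCat.Presheaf.algebra_section_stalk X.presheaf (⟨y, hyW'⟩ : W'.1)
      haveI : IsLocalization.AtPrime (X.presheaf.stalk y) (pr W' hyW') := W'.2.isLocalization_stalk ⟨y, hyW'⟩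
      exact zero_notMem_nonZeroDivisors (h0 ▸ IsLocalization.map_nonZeroDivisors_le (pr W' hyW').primeCompl
        (X.presheaf.stalk y) (Submonoid.mem_map_of_mem _ hf) :
        (0 : X.presheaf.stalk y) ∈ nonZeroDivisors (X.presheaf.stalk y))
    have hxsupp : x ∈ (D.map U.ι).support := (mem_support_iff_le _ W hxW).mpr fun a ha => by
      have h1 := (Submodule.mem_bot Γ(X, W.1)).mp (hsI a ha)
      exact ((W.2.primeIdealOf ⟨x, hxW⟩).2.mem_or_mem (h1 ▸ Submodule.zero_mem _)).resolve_left hs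
    rw [Scheme.IdealSheafData.support_map] at hxsupp
    obtain ⟨w, hw, hw'⟩ := mem_closure_iff.mp hxsupp _ (X.basicOpen s).2 hxs
    obtain ⟨z, -, rfl⟩ := hw'
    exact hnoU _ hw z.2
  -- the common divisor
  obtain ⟨c, hc0, hcdvd, hcloc⟩ := exists_common_divisor (fun t : T => γ₀ t.1) hne
  obtain ⟨⟨c₀, m⟩, hm⟩ := IsLocalization.surj (pr W hxW).primeCompl c
  have hmu : IsUnit (γ₀ m) := IsLocalization.map_units _ m
  have hspanc : Ideal.span ({γ₀ c₀} : Set (X.presheaf.stalk x)) = Ideal.span {c} := by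
    rw [← hm]; exact Ideal.span_singleton_mul_right_unit hmu c
  -- finitely many basic opens cover the part of `W` inside `U`
  obtain ⟨H, hH, hHspan⟩ := (Submodule.fg_span_iff_fg_span_finset_subset _).mp
    (IsNoetherian.noetherian (Ideal.span {h : Γ(X, W.1) | X.basicOpen h ≤ U}))
  have hcover : ∀ y (hy : y ∈ W.1), y ∈ U → ∃ h ∈ H, h ∉ pr W hy := by
    intro y hy hyU
    by_contra hall
    push_neg at hall
    obtain ⟨h, hhU, hyh⟩ := W.2.exists_basicOpen_le ⟨y, hyU⟩ hy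
    have hle : Ideal.span (H : Set Γ(X, W.1)) ≤ pr W hy := Ideal.span_le.mpr hall
    exact (WeakAssLib.mem_primeIdealOf W.2 hy h).mp hyh (hle (hHspan.le (Ideal.subset_span hhU)))
  -- a power of each `h` carries `c` into the ideal
  have hpow : ∀ h ∈ H, ∃ (N : ℕ) (s : Γ(X, W.1)), s ∉ pr W hxW ∧ s * (h ^ N * c₀) ∈ I := by
    intro h hh
    have hrad : γ₀ h ∈ ((stI (D.map U.ι) W hxW).colon {c}).radical := by
      rw [Ideal.radical_eq_sInf, Submodule.mem_sInf]
      rintro q ⟨hKq, hq⟩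
      by_contra hhq
      haveI := hq
      let Q : Ideal Γ(X, W.1) := Ideal.comap γ₀ q
      haveI hQp : Q.IsPrime := Ideal.comap_isPrime γ₀ q
      let y : X := W.2.fromSpec ⟨Q, hQp⟩
      have hy : y ∈ W.1 := W.2.range_fromSpec.subset ⟨_, rfl⟩
      have hpr : pr W (x := y) hy = Q := congrArg PrimeSpectrum.asIdeal
        (W.2.fromSpec.isOpenEmbedding.injective (W.2.fromSpec_primeIdealOf ⟨y, hy⟩) :
          W.2.primeIdealOf ⟨y, hy⟩ = ⟨Q, hQp⟩)
      have hyU : y ∈ U := (hH hh : X.basicOpen h ≤ U)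
        ((WeakAssLib.mem_primeIdealOf W.2 hy h).mpr (show h ∉ pr W (x := y) hy by rw [hpr]; exact hhq))
      obtain ⟨W', hyW', f, -, hW'⟩ := exists_generator_map_ι U D hD hyU
      have hst : stI (D.map U.ι) W (x := y) hy = Ideal.span {X.presheaf.germ W'.1 y hyW' f} := by
        rw [stI_eq (D.map U.ι) W W' hy hyW', stI, hW', Ideal.map_span, Set.image_singleton]
      have hfmem : X.presheaf.germ W'.1 y hyW' f ∈ stI (D.map U.ι) W (x := y) hy :=
        hst ▸ Ideal.mem_span_singleton_self _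
      letI := TopCat.Presheaf.algebra_section_stalk X.presheaf (⟨y, hy⟩ : W.1)
      haveI : IsLocalization.AtPrime (X.presheaf.stalk y) (pr W (x := y) hy) := W.2.isLocalization_stalk ⟨y, hy⟩
      obtain ⟨⟨⟨g, hg⟩, s₀⟩, hs₀⟩ :=
        (IsLocalization.mem_map_algebraMap_iff (pr W (x := y) hy).primeCompl (X.presheaf.stalk y)).mp hfmem
      have hgspan : Ideal.span ({algebraMap Γ(X, W.1) (X.presheaf.stalk y) g} : Set _) =
          Ideal.span {X.presheaf.germ W'.1 y hyW' f} := by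
        rw [← hs₀]
        exact Ideal.span_singleton_mul_right_unit (IsLocalization.map_units _ s₀) _
      obtain ⟨s, hs, hsI⟩ := exists_mul_le (S := X.presheaf.stalk y) (pr W (x := y) hy)
        (IsNoetherian.noetherian I) (I := Ideal.span {g}) (by
          rw [Ideal.map_span, Set.image_singleton, hgspan, ← hst]
          exact le_rfl)
      obtain ⟨k, hk, hkc⟩ := hcloc q hq (γ₀ s) (hpr ▸ hs : s ∉ Q) (γ₀ g)
        (hIR ▸ Ideal.mem_map_of_mem _ hg) (fun t => by
          obtain ⟨r, hr⟩ := Ideal.mem_span_singleton.mp (hsI t.1 (hT ▸ Ideal.subset_span t.2))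
          exact ⟨γ₀ r, by rw [← map_mul, hr, map_mul]⟩)
      exact hk (hKq (Submodule.mem_colon_singleton.mpr (by rw [hIR, smul_eq_mul]; exact hkc)))
    obtain ⟨N, hN⟩ := hrad
    rw [Submodule.mem_colon_singleton, smul_eq_mul] at hN
    have h1 : X.presheaf.germ W.1 x hxW (h ^ N * c₀) ∈ I.map (X.presheaf.germ W.1 x hxW).hom := by
      rw [hγeq, map_mul, map_pow, ← hm, ← mul_assoc]
      exact Ideal.mul_mem_right _ _ hN
    obtain ⟨s, hs, hsI⟩ := (germ_mem_map_iff W hxW _ _).mp h1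
    exact ⟨N, s, hs, hsI⟩
  choose! N s hs hsI using hpow
  refine ⟨c₀, ∏ h ∈ H, s h, fun hmem => ?_, ?_, ?_, ?_⟩
  · obtain ⟨h, hh, hmem'⟩ := (Ideal.IsPrime.prod_mem_iff (p := pr W hxW)).1 hmem
    exact hs h hh hmem'
  · refine mem_map_ι_of_local U D W fun y hy hyU => ?_
    obtain ⟨h, hh, hhy⟩ := hcover y hy hyU
    refine (germ_mem_map_iff W hy _ _).mpr ⟨h ^ N h, fun hmem => hhy (Ideal.IsPrime.mem_of_pow_mem inferInstance _ hmem), ?_⟩
    obtain ⟨d, hd⟩ := Finset.dvd_prod_of_mem s hh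
    rw [hd, show h ^ N h * (s h * d * c₀) = d * (s h * (h ^ N h * c₀)) by ring]
    exact I.mul_mem_left _ (hsI h hh)
  · rw [hγeq, ← hm]
    exact mul_ne_zero hc0 hmu.ne_zero
  · rw [hγeq, hspanc, hIR, Ideal.span_le]
    rintro _ ⟨t, rfl⟩
    exact Ideal.mem_span_singleton.mpr (hcdvd t)

include hD in
theorem cartier_map_ι (hufd : ∀ x : X, x ∉ U → IsDomain (X.presheaf.stalk x) ∧
      UniqueFactorizationMonoid (X.presheaf.stalk x)) :
    BlowUp.IsEffCartierIdeal (D.map U.ι) := by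
  intro x
  by_cases hxU : x ∈ U
  · exact exists_generator_map_ι U D hD hxU
  obtain ⟨O, hO, hxW, -⟩ := exists_isAffineOpen_mem_and_subset (X := X) (x := x) (U := ⊤) trivial
  let W : X.affineOpens := ⟨O, hO⟩
  obtain ⟨_, _⟩ := hufd x hxU
  obtain ⟨c₀, S, hS, hSI, hne, hle⟩ := exists_generator_at U D hD W (x := x) hxW
  haveI : IsNoetherianRing Γ(X, O) := IsLocallyNoetherian.component_noetherian W
  letI := TopCat.Presheaf.algebra_section_stalk X.presheaf (⟨x, hxW⟩ : W.1)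
  haveI : IsLocalization.AtPrime (X.presheaf.stalk x) (pr W (x := x) hxW) := hO.isLocalization_stalk ⟨x, hxW⟩
  obtain ⟨s₁, hs₁, hs₁I⟩ := exists_mul_le (S := X.presheaf.stalk x) (pr W (x := x) hxW)
    (IsNoetherian.noetherian ((D.map U.ι).ideal W)) (I := Ideal.span {c₀})
    (by rw [Ideal.map_span, Set.image_singleton]; exact hle)
  obtain ⟨s₂, hs₂, hs₂I⟩ := exists_mul_le (S := X.presheaf.stalk x) (pr W (x := x) hxW) (I := ⊥)
    (IsNoetherian.noetherian ((⊥ : Ideal Γ(X, O)).colon {c₀})) (by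
      refine Ideal.map_le_iff_le_comap.mpr fun a ha => ?_
      rw [Submodule.mem_colon_singleton, smul_eq_mul, Submodule.mem_bot] at ha
      rw [Ideal.map_bot, Ideal.mem_comap, Submodule.mem_bot]
      have h1 := congrArg (algebraMap Γ(X, W.1) (X.presheaf.stalk x)) ha
      rw [map_mul, map_zero] at h1
      exact (mul_eq_zero.mp h1).resolve_right hne)
  obtain ⟨σ, hσ⟩ : ∃ σ : Γ(X, O), σ = S * s₁ * s₂ := ⟨_, rfl⟩
  have hσp : σ ∉ pr W (x := x) hxW := by
    rw [hσ]
    intro hmem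
    rcases (Ideal.IsPrime.mem_or_mem inferInstance hmem) with h | h
    · rcases (Ideal.IsPrime.mem_or_mem inferInstance h) with h | h
      · exact hS h
      · exact hs₁ h
    · exact hs₂ h
  let V : X.affineOpens := ⟨X.basicOpen σ, hO.basicOpen σ⟩
  haveI := hO.isLocalization_basicOpen σ
  have hσu : IsUnit (algebraMap Γ(X, O) Γ(X, X.basicOpen σ) σ) := IsLocalization.Away.algebraMap_isUnit σ
  have hideal : (D.map U.ι).ideal V = ((D.map U.ι).ideal W).map (algebraMap Γ(X, O) Γ(X, X.basicOpen σ)) :=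
    ((D.map U.ι).map_ideal (U := V) (V := W) (X.basicOpen_le σ)).symm
  have hσm : algebraMap Γ(X, O) Γ(X, X.basicOpen σ) σ = algebraMap Γ(X, O) _ S * algebraMap Γ(X, O) _ s₁ *
      algebraMap Γ(X, O) _ s₂ := by
    rw [← map_mul, ← map_mul, ← hσ]
  rw [hσm] at hσu
  obtain ⟨⟨hu₀, hu₁⟩, hu₂⟩ : (IsUnit (algebraMap Γ(X, O) Γ(X, X.basicOpen σ) S) ∧
      IsUnit (algebraMap Γ(X, O) Γ(X, X.basicOpen σ) s₁)) ∧
      IsUnit (algebraMap Γ(X, O) Γ(X, X.basicOpen σ) s₂) := by
    simpa only [IsUnit.mul_iff] using hσu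
  refine ⟨V, (WeakAssLib.mem_primeIdealOf hO hxW σ).mpr hσp, algebraMap Γ(X, O) _ c₀,
    mem_nonZeroDivisors_iff_right.mpr fun z hz => ?_, le_antisymm ?_ ?_⟩
  · obtain ⟨⟨a, ⟨_, n, rfl⟩⟩, ha⟩ := IsLocalization.surj (Submonoid.powers σ) z
    simp only at ha
    have h1 : algebraMap Γ(X, O) Γ(X, X.basicOpen σ) (a * c₀) = 0 := by
      rw [map_mul, ← ha, mul_right_comm, hz, zero_mul]
    obtain ⟨⟨_, m, rfl⟩, hm⟩ := (IsLocalization.map_eq_zero_iff (Submonoid.powers σ) _ _).mp h1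
    have h2 : s₂ * (σ ^ m * a) ∈ (⊥ : Ideal Γ(X, O)) := hs₂I _ (Submodule.mem_colon_singleton.mpr (by
      rw [smul_eq_mul, Submodule.mem_bot, mul_assoc]; exact hm))
    have h3 := congrArg (algebraMap Γ(X, O) Γ(X, X.basicOpen σ)) ((Submodule.mem_bot Γ(X, O)).mp h2)
    rw [map_zero, map_mul, map_mul, ← ha, ← mul_assoc] at h3
    have hu : IsUnit (algebraMap Γ(X, O) Γ(X, X.basicOpen σ) σ) := IsLocalization.Away.algebraMap_isUnit σ
    have h4 := (hu₂.mul (hu.pow m)).mul_right_eq_zero.mp (by rwa [map_pow] at h3)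
    rw [map_pow] at h4
    exact (hu.pow n).mul_left_eq_zero.mp h4
  · rw [hideal, Ideal.map_le_iff_le_comap]
    intro a ha
    obtain ⟨r, hr⟩ := Ideal.mem_span_singleton.mp (hs₁I a ha)
    rw [Ideal.mem_comap, ← Ideal.unit_mul_mem_iff_mem _ hu₁, ← map_mul, hr, map_mul]
    exact Ideal.mul_mem_right _ _ (Ideal.mem_span_singleton_self _)
  · rw [Ideal.span_singleton_le_iff_mem, hideal, ← Ideal.unit_mul_mem_iff_mem _ hu₀, ← map_mul]
    exact Ideal.mem_map_of_mem _ hSI

end Groth.Agent.DivPart
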