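import Groth.Agent.DivPart.Main
import Groth.Agent.BlowUpLib.Cartier
import Mathlib

/-!
An effective Cartier divisor supported on integral Cartier divisors is a sum of multiples of them.
-/

set_option autoImplicit false
set_option maxHeartbeats 1000000
set_option backward.isDefEq.respectTransparency false

universe u

open CategoryTheory AlgebraicGeometry TopologicalSpace IsLocalRing

noncomputable section

namespace Groth.Agent.DivPart

variable {X : Scheme.{u}}

theorem cartier_pow {I : X.IdealSheafData} (hI : BlowUp.IsEffCartierIdeal I) (n : ℕ) :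
    BlowUp.IsEffCartierIdeal (I ^ n) := by
  induction n with
  | zero => rw [pow_zero]; exact BlowUpLib.cartier_top
  | succ n ih => rw [pow_succ]; exact BlowUpLib.cartier_mul ih hI

/-- An effective Cartier ideal containing another one, equal to it in codimension one, is equal to it. -/
theorem eq_of_le_of_codim_one [IsLocallyNoetherian X] {D P : X.IdealSheafData}
    (hD : BlowUp.IsEffCartierIdeal D) (hP : BlowUp.IsEffCartierIdeal P) (hle : D ≤ P)
    (h : ∀ y ∈ D.support, ringKrullDim (X.presheaf.stalk y) ≤ 1 →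
      ∃ W : X.affineOpens, y ∈ W.1 ∧ P.ideal W = D.ideal W) : D = P := by
  have hsmall : ∀ x : X, ∃ W : X.affineOpens, x ∈ W.1 ∧ D.ideal W = P.ideal W := by
    intro x
    obtain ⟨U₁, hxU₁, -, p₁, hp₁, hP₁⟩ := BlowUpLib.exists_small_generator hP (O := ⊤) (x := x) trivial
    obtain ⟨W, hxW, hWU, d, -, hDW⟩ := BlowUpLib.exists_small_generator hD hxU₁
    obtain ⟨p, hp, hPW⟩ := BlowUpLib.exists_generator_of_le P (show W ≤ U₁ from hWU) hp₁ hP₁
    haveI : IsNoetherianRing Γ(X, W.1) := IsLocallyNoetherian.component_noetherian W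
    refine ⟨W, hxW, ?_⟩
    obtain ⟨q, hq⟩ : p ∣ d := by
      rw [← Ideal.mem_span_singleton, ← hPW]
      exact hle W (hDW ▸ Ideal.mem_span_singleton_self d)
    suffices IsUnit q by
      rw [hDW, hPW]
      rw [hq]
      exact Ideal.span_singleton_mul_right_unit this p
    by_contra hqu
    obtain ⟨m, hm, hqm⟩ := exists_max_ideal_of_mem_nonunits hqu
    haveI := hm.isPrime
    obtain ⟨Q, hQ, -⟩ := Ideal.exists_minimalPrimes_le (I := Ideal.span {q}) (J := m)
      ((Ideal.span_singleton_le_iff_mem _).mpr hqm)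
    haveI := hQ.1.1
    let y : X := W.2.fromSpec ⟨Q, hQ.1.1⟩
    have hy : y ∈ W.1 := W.2.range_fromSpec.subset ⟨_, rfl⟩
    have hpr : pr W (x := y) hy = Q := congrArg PrimeSpectrum.asIdeal
      (W.2.fromSpec.isOpenEmbedding.injective (W.2.fromSpec_primeIdealOf ⟨y, hy⟩) :
        W.2.primeIdealOf ⟨y, hy⟩ = ⟨Q, hQ.1.1⟩)
    have hqQ : q ∈ Q := hQ.1.2 (Ideal.mem_span_singleton_self q)
    have hys : y ∈ D.support := (mem_support_iff_le D W hy).mpr (by
      rw [hDW, Ideal.span_le, Set.singleton_subset_iff, hpr, SetLike.mem_coe, hq]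
      exact Q.mul_mem_left _ hqQ)
    have hdim : ringKrullDim (X.presheaf.stalk y) ≤ 1 := by
      rw [ringKrullDim_stalk_eq W hy, hpr]
      exact_mod_cast Ideal.height_le_one_of_isPrincipal_of_mem_minimalPrimes (Ideal.span {q}) Q hQ
    obtain ⟨V, hyV, hPD⟩ := h y hys hdim
    have heq : stI P W hy = stI D W hy := by
      rw [stI_eq P W V hy hyV, stI_eq D W V hy hyV, stI, stI, hPD]
    have hmem : X.presheaf.germ W.1 y hy p ∈ stI D W hy :=
      heq ▸ Ideal.mem_map_of_mem _ (hPW ▸ Ideal.mem_span_singleton_self p)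
    obtain ⟨s, hs, hsp⟩ := (germ_mem_map_iff W hy _ p).mp hmem
    obtain ⟨r, hr⟩ := Ideal.mem_span_singleton.mp (hDW ▸ hsp)
    have h0 : (s - q * r) * p = 0 := by rw [sub_mul, hr, hq]; ring
    have h1 := (mem_nonZeroDivisors_iff_right.mp hp) _ h0
    rw [sub_eq_zero] at h1
    exact hs (hpr ▸ h1 ▸ Q.mul_mem_right r hqQ)
  choose W hxW hW using hsmall
  exact Scheme.IdealSheafData.ext_of_iSup_eq_top W
    (eq_top_iff.2 fun x _ => Opens.mem_iSup.2 ⟨x, hxW x⟩) hW

theorem exists_eq_prod [IsNoetherian X] (D : X.IdealSheafData) (hD : BlowUp.IsEffCartierIdeal D)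
    (r : ℕ) (Ds : Fin r → X.IdealSheafData) (hDs : ∀ i, BlowUp.IsEffCartierIdeal (Ds i))
    (hint : ∀ i, IsIntegral (Ds i).subscheme)
    (hsub : (D.support : Set X) ⊆ ⋃ i, ((Ds i).support : Set X)) :
    ∃ a : Fin r → ℕ, D = ∏ i, Ds i ^ a i := by
  classical
  obtain ⟨a, hle, U, hU, hcodim⟩ := exists_divisorial_part D (I := ULift.{u} (Fin r))
    (fun i => Ds i.down) (fun i => hDs i.down) (fun i => hint i.down) ∅ isClosed_empty
    (fun z hz => absurd hz (Set.notMem_empty z))
    (fun x hx => Or.inr (by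
      obtain ⟨i, hi⟩ := Set.mem_iUnion.mp (hsub hx)
      exact Set.mem_iUnion.mpr ⟨⟨i⟩, hi⟩))
  refine ⟨fun i => a ⟨i⟩, ?_⟩
  have hprod : a.prod (fun i n => Ds i.down ^ n) = ∏ i, Ds i ^ a ⟨i⟩ := by
    rw [Finsupp.prod_fintype _ _ fun i => pow_zero _]
    exact Fintype.prod_equiv Equiv.ulift _ _ fun i => rfl
  rw [hprod] at hle hU
  have hP : BlowUp.IsEffCartierIdeal (∏ i, Ds i ^ a ⟨i⟩) :=
    Finset.prod_induction _ BlowUp.IsEffCartierIdeal (fun _ _ => BlowUpLib.cartier_mul)
      BlowUpLib.cartier_top fun i _ => cartier_pow (hDs i) _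
  refine eq_of_le_of_codim_one hD hP hle fun y hy hdim => ?_
  have hyU : y ∈ U := by
    by_contra hn
    exact absurd ((hcodim y ⟨hy, hn⟩).trans hdim) (by decide)
  obtain ⟨W, hyW, -, hW⟩ := hU y hyU
  exact ⟨W, hyW, hW⟩

end Groth.Agent.DivPart
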