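import Groth.Agent.DivPart.Alg
import Groth.Agent.WeakAssLib.Basic
import Groth.Prelude.Def_BlowUp2
import Mathlib

/-!
Ideal sheaves at points: stalks, supports, and the generic point of an integral Cartier divisor.
-/

set_option autoImplicit false
set_option maxHeartbeats 800000
set_option backward.isDefEq.respectTransparency false

universe u

open CategoryTheory AlgebraicGeometry TopologicalSpace IsLocalRing

noncomputable section

namespace Groth.Agent.DivPart

variable {X : Scheme.{u}}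

/-- The stalk of an ideal sheaf, computed on an affine open. -/
abbrev stI (𝓘 : X.IdealSheafData) (W : X.affineOpens) {x : X} (hx : x ∈ W.1) : Ideal (X.presheaf.stalk x) :=
  (𝓘.ideal W).map (X.presheaf.germ W.1 x hx).hom

/-- the prime of a point in an affine open -/
abbrev pr (W : X.affineOpens) {x : X} (hx : x ∈ W.1) : Ideal Γ(X, W.1) :=
  (W.2.primeIdealOf ⟨x, hx⟩).asIdeal

theorem stI_eq_of_le (𝓘 : X.IdealSheafData) {U W : X.affineOpens} (h : U.1 ≤ W.1) {x : X} (hx : x ∈ U.1) :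
    stI 𝓘 W (h hx) = stI 𝓘 U hx := by
  rw [stI, stI, ← 𝓘.map_ideal h, Ideal.map_map, ← CommRingCat.hom_comp]
  congr 1
  exact congrArg CommRingCat.Hom.hom (X.presheaf.germ_res (homOfLE h) x hx).symm

theorem stI_eq (𝓘 : X.IdealSheafData) (U W : X.affineOpens) {x : X} (hU : x ∈ U.1) (hW : x ∈ W.1) :
    stI 𝓘 U hU = stI 𝓘 W hW := by
  obtain ⟨O, hO, hxO, hOU⟩ := exists_isAffineOpen_mem_and_subset (X := X) (x := x) (U := U.1 ⊓ W.1) ⟨hU, hW⟩
  exact (stI_eq_of_le 𝓘 (U := ⟨O, hO⟩) (fun y hy => (hOU hy).1) hxO).trans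
    (stI_eq_of_le 𝓘 (U := ⟨O, hO⟩) (fun y hy => (hOU hy).2) hxO).symm

theorem germ_mem_map_iff (W : X.affineOpens) {x : X} (hx : x ∈ W.1) (I : Ideal Γ(X, W.1)) (f : Γ(X, W.1)) :
    X.presheaf.germ W.1 x hx f ∈ I.map (X.presheaf.germ W.1 x hx).hom ↔ ∃ s, s ∉ pr W hx ∧ s * f ∈ I := by
  letI := TopCat.Presheaf.algebra_section_stalk X.presheaf (⟨x, hx⟩ : W.1)
  haveI : IsLocalization.AtPrime (X.presheaf.stalk x) (pr W hx) := W.2.isLocalization_stalk ⟨x, hx⟩
  refine (IsLocalization.algebraMap_mem_map_algebraMap_iff (pr W hx).primeCompl (X.presheaf.stalk x) I f).trans ?_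
  exact ⟨fun ⟨s, hs, h⟩ => ⟨s, hs, h⟩, fun ⟨s, hs, h⟩ => ⟨s, hs, h⟩⟩

theorem ideal_le_of_stI (I J : X.IdealSheafData) (W : X.affineOpens)
    (h : ∀ x (hx : x ∈ W.1), ∃ (V : X.affineOpens) (hV : x ∈ V.1), stI J V hV ≤ stI I V hV) :
    J.ideal W ≤ I.ideal W := by
  intro f hf
  by_contra hn
  obtain ⟨m, hm, hle⟩ := Ideal.exists_le_maximal ((I.ideal W).colon {f}) (fun htop => hn (by
    have h1 : (1 : Γ(X, W.1)) ∈ (I.ideal W).colon {f} := htop ▸ trivial
    rwa [Submodule.mem_colon_singleton, one_smul] at h1))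
  let x : X := W.2.fromSpec ⟨m, hm.isPrime⟩
  have hx : x ∈ W.1 := W.2.range_fromSpec.subset ⟨_, rfl⟩
  have hq : W.2.primeIdealOf ⟨x, hx⟩ = ⟨m, hm.isPrime⟩ :=
    W.2.fromSpec.isOpenEmbedding.injective (W.2.fromSpec_primeIdealOf ⟨x, hx⟩)
  obtain ⟨V, hV, hVle⟩ := h x hx
  rw [stI_eq J V W hV hx, stI_eq I V W hV hx] at hVle
  obtain ⟨s, hs, hmem⟩ := (germ_mem_map_iff W hx _ f).mp (hVle (Ideal.mem_map_of_mem _ hf))
  refine hs ?_
  show s ∈ (W.2.primeIdealOf ⟨x, hx⟩).asIdeal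
  rw [hq]
  exact hle (Submodule.mem_colon_singleton.mpr hmem)

theorem mem_support_iff_le (I : X.IdealSheafData) (W : X.affineOpens) {x : X} (hx : x ∈ W.1) :
    x ∈ I.support ↔ I.ideal W ≤ pr W hx := by
  rw [I.mem_support_iff_of_mem hx, Scheme.mem_zeroLocus_iff]
  constructor
  · intro h f hf
    by_contra hn
    exact h f hf ((WeakAssLib.mem_primeIdealOf W.2 hx f).mpr hn)
  · exact fun h f hf hxf => (WeakAssLib.mem_primeIdealOf W.2 hx f).mp hxf (h hf)

theorem pr_le_of_specializes (W : X.affineOpens) {x y : X} (hx : x ∈ W.1) (hy : y ∈ W.1) (h : y ⤳ x) :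
    pr W hy ≤ pr W hx := fun f hf => by
  by_contra hn
  exact (WeakAssLib.mem_primeIdealOf W.2 hy f).mp
    (h.mem_open (X.basicOpen f).2 ((WeakAssLib.mem_primeIdealOf W.2 hx f).mpr hn)) hf

theorem specializes_of_pr_le (W : X.affineOpens) {x y : X} (hx : x ∈ W.1) (hy : y ∈ W.1)
    (h : pr W hy ≤ pr W hx) : y ⤳ x := by
  have h1 : W.2.primeIdealOf ⟨y, hy⟩ ⤳ W.2.primeIdealOf ⟨x, hx⟩ :=
    (PrimeSpectrum.le_iff_specializes _ _).mp h
  have h2 := h1.map W.2.fromSpec.continuous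
  rwa [W.2.fromSpec_primeIdealOf ⟨y, hy⟩, W.2.fromSpec_primeIdealOf ⟨x, hx⟩] at h2

theorem ringKrullDim_stalk_eq (W : X.affineOpens) {x : X} (hx : x ∈ W.1) :
    ringKrullDim (X.presheaf.stalk x) = (pr W hx).height := by
  letI := TopCat.Presheaf.algebra_section_stalk X.presheaf (⟨x, hx⟩ : W.1)
  haveI : IsLocalization.AtPrime (X.presheaf.stalk x) (pr W hx) := W.2.isLocalization_stalk ⟨x, hx⟩
  exact IsLocalization.AtPrime.ringKrullDim_eq_height (pr W hx) (X.presheaf.stalk x)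

section Divisor

variable (D : X.IdealSheafData) (hD : IsIntegral D.subscheme)

theorem ideal_isPrime (hD : IsIntegral D.subscheme) (W : X.affineOpens) {x : X} (hx : x ∈ W.1)
    (hs : x ∈ D.support) : (D.ideal W).IsPrime := by
  obtain ⟨v, hv⟩ : x ∈ Set.range D.subschemeι := by rw [D.range_subschemeι]; exact hs
  have : Nonempty ↥(D.subschemeι ⁻¹ᵁ W.1) := ⟨⟨v, show D.subschemeι v ∈ W.1 by rw [hv]; exact hx⟩⟩
  haveI := hD
  have : IsDomain Γ(D.subscheme, D.subschemeι ⁻¹ᵁ W.1) :=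
    @IsIntegral.component_integral _ hD _ ⟨⟨v, show D.subschemeι v ∈ W.1 by rw [hv]; exact hx⟩⟩
  rw [← D.ker_subschemeι_app W]
  exact RingHom.ker_isPrime _

/-- the generic point of an integral closed subscheme -/
def eta (hD : IsIntegral D.subscheme) : X :=
  haveI := hD
  D.subschemeι (genericPoint D.subscheme)

theorem eta_mem_support : eta D hD ∈ D.support := by
  haveI := hD
  show eta D hD ∈ (D.support : Set X)
  rw [← D.range_subschemeι]
  exact ⟨_, rfl⟩

theorem eta_specializes {x : X} (hs : x ∈ D.support) : eta D hD ⤳ x := by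
  haveI := hD
  obtain ⟨v, rfl⟩ : x ∈ Set.range D.subschemeι := by rw [D.range_subschemeι]; exact hs
  exact (genericPoint_specializes v).map D.subschemeι.continuous

theorem eta_mem {W : X.affineOpens} {x : X} (hx : x ∈ W.1) (hs : x ∈ D.support) : eta D hD ∈ W.1 :=
  (eta_specializes D hD hs).mem_open W.1.2 hx

theorem pr_eta (W : X.affineOpens) (he : eta D hD ∈ W.1) : pr W he = D.ideal W := by
  have hp := ideal_isPrime D hD W he (eta_mem_support D hD)
  refine le_antisymm ?_ ((mem_support_iff_le D W he).mp (eta_mem_support D hD))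
  let y : X := W.2.fromSpec ⟨D.ideal W, hp⟩
  have hy : y ∈ W.1 := W.2.range_fromSpec.subset ⟨_, rfl⟩
  have hq : W.2.primeIdealOf ⟨y, hy⟩ = ⟨D.ideal W, hp⟩ :=
    W.2.fromSpec.isOpenEmbedding.injective (W.2.fromSpec_primeIdealOf ⟨y, hy⟩)
  have hys : y ∈ D.support := (mem_support_iff_le D W hy).mpr (by show D.ideal W ≤ (W.2.primeIdealOf ⟨y, hy⟩).asIdeal; rw [hq])
  refine (pr_le_of_specializes W hy he (eta_specializes D hD hys)).trans ?_
  show (W.2.primeIdealOf ⟨y, hy⟩).asIdeal ≤ D.ideal W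
  rw [hq]

theorem stI_eta (W : X.affineOpens) (he : eta D hD ∈ W.1) :
    stI D W he = maximalIdeal (X.presheaf.stalk (eta D hD)) := by
  letI := TopCat.Presheaf.algebra_section_stalk X.presheaf (⟨eta D hD, he⟩ : W.1)
  haveI : IsLocalization.AtPrime (X.presheaf.stalk (eta D hD)) (pr W he) := W.2.isLocalization_stalk ⟨_, he⟩
  rw [stI, ← pr_eta D hD W he]
  exact IsLocalization.AtPrime.map_eq_maximalIdeal (pr W he) (X.presheaf.stalk (eta D hD))

theorem eq_of_eta_eq (D' : X.IdealSheafData) (hD' : IsIntegral D'.subscheme)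
    (h : eta D hD = eta D' hD') : D = D' := by
  refine Scheme.IdealSheafData.ext (funext fun W => ?_)
  by_cases he : eta D hD ∈ W.1
  · have he' : eta D' hD' ∈ W.1 := h ▸ he
    rw [← pr_eta D hD W he, ← pr_eta D' hD' W he']
    congr 3
  · have htop : ∀ (E : X.IdealSheafData) (hE : IsIntegral E.subscheme), eta E hE ∉ W.1 → E.ideal W = ⊤ := by
      intro E hE hn
      by_contra ht
      obtain ⟨m, hm, hle⟩ := Ideal.exists_le_maximal _ ht
      let y : X := W.2.fromSpec ⟨m, hm.isPrime⟩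
      have hy : y ∈ W.1 := W.2.range_fromSpec.subset ⟨_, rfl⟩
      have hq : W.2.primeIdealOf ⟨y, hy⟩ = ⟨m, hm.isPrime⟩ :=
        W.2.fromSpec.isOpenEmbedding.injective (W.2.fromSpec_primeIdealOf ⟨y, hy⟩)
      exact hn (eta_mem E hE hy ((mem_support_iff_le E W hy).mpr
        (by show E.ideal W ≤ (W.2.primeIdealOf ⟨y, hy⟩).asIdeal; rw [hq]; exact hle)))
    rw [htop D hD he, htop D' hD' (h ▸ he)]

theorem exists_generator (hC : BlowUp.IsEffCartierIdeal D) (W : X.affineOpens) {x : X} (hx : x ∈ W.1) :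
    ∃ π : X.presheaf.stalk x, π ∈ nonZeroDivisors (X.presheaf.stalk x) ∧ stI D W hx = Ideal.span {π} ∧
      (x ∉ D.support → IsUnit π) := by
  obtain ⟨U, hxU, f, hf, hU⟩ := hC x
  letI := TopCat.Presheaf.algebra_section_stalk X.presheaf (⟨x, hxU⟩ : U.1)
  haveI : IsLocalization.AtPrime (X.presheaf.stalk x) (pr U hxU) := U.2.isLocalization_stalk ⟨x, hxU⟩
  refine ⟨X.presheaf.germ U.1 x hxU f, ?_, ?_, fun hn => ?_⟩
  · exact IsLocalization.map_nonZeroDivisors_le (pr U hxU).primeCompl (X.presheaf.stalk x)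
      (Submonoid.mem_map_of_mem _ hf)
  · rw [stI_eq D W U hx hxU, stI, hU, Ideal.map_span, Set.image_singleton]
  · refine WeakAssLib.isUnit_germ U.2 hxU fun hmem => hn ((mem_support_iff_le D U hxU).mpr ?_)
    rw [hU, Ideal.span_le, Set.singleton_subset_iff]
    exact hmem

theorem stI_isPrime (hD : IsIntegral D.subscheme) (W : X.affineOpens) {x : X} (hx : x ∈ W.1) (hs : x ∈ D.support) :
    (stI D W hx).IsPrime ∧
      (stI D W hx).comap (X.presheaf.germ W.1 x hx).hom = D.ideal W := by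
  have hp := ideal_isPrime D hD W hx hs
  have hle := (mem_support_iff_le D W hx).mp hs
  letI := TopCat.Presheaf.algebra_section_stalk X.presheaf (⟨x, hx⟩ : W.1)
  haveI : IsLocalization.AtPrime (X.presheaf.stalk x) (pr W hx) := W.2.isLocalization_stalk ⟨x, hx⟩
  have hdisj : Disjoint ((pr W hx).primeCompl : Set Γ(X, W.1)) (D.ideal W : Set Γ(X, W.1)) :=
    Set.disjoint_left.mpr fun a ha ha' => ha (hle ha')
  exact ⟨IsLocalization.isPrime_of_isPrime_disjoint (pr W hx).primeCompl (X.presheaf.stalk x) _ hp hdisj,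
    IsLocalization.comap_map_of_isPrime_disjoint (pr W hx).primeCompl (X.presheaf.stalk x) hp hdisj⟩

end Divisor

end Groth.Agent.DivPart
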