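import Groth.Agent.DivPart.Basic
import Mathlib

/-!
The divisorial part of a closed subscheme covered by integral effective Cartier divisors outside
codimension two.
-/

set_option autoImplicit false
set_option maxHeartbeats 1000000
set_option backward.isDefEq.respectTransparency false

universe u

open CategoryTheory AlgebraicGeometry TopologicalSpace IsLocalRing

noncomputable section

namespace Groth.Agent.DivPart

variable {X : Scheme.{u}}

theorem two_le_of_mem [IsNoetherian X] (Z' : Set ↥X) (hZ' : IsClosed Z')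
    (hcodim : ∀ z ∈ Z', (∀ y ∈ Z', y ⤳ z → y = z) → (2 : WithBot ℕ∞) ≤ ringKrullDim ↑(X.presheaf.stalk z))
    {x : X} (hx : x ∈ Z') : (2 : WithBot ℕ∞) ≤ ringKrullDim ↑(X.presheaf.stalk x) := by
  obtain ⟨O, hO, hxO, -⟩ := exists_isAffineOpen_mem_and_subset (X := X) (x := x) (U := ⊤) trivial
  let W : X.affineOpens := ⟨O, hO⟩
  obtain ⟨s, hs⟩ := (PrimeSpectrum.isClosed_iff_zeroLocus (hO.fromSpec ⁻¹' Z')).mp (hZ'.preimage hO.fromSpec.continuous)
  have hmem : hO.primeIdealOf ⟨x, hxO⟩ ∈ PrimeSpectrum.zeroLocus s := by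
    rw [← hs, Set.mem_preimage, hO.fromSpec_primeIdealOf ⟨x, hxO⟩]; exact hx
  obtain ⟨Q, hQ, hQle⟩ := Ideal.exists_minimalPrimes_le
    (show Ideal.span s ≤ pr W (x := x) hxO from Ideal.span_le.mpr hmem)
  let y : X := hO.fromSpec ⟨Q, hQ.1.1⟩
  have hy : y ∈ O := hO.range_fromSpec.subset ⟨_, rfl⟩
  have hq : hO.primeIdealOf ⟨y, hy⟩ = ⟨Q, hQ.1.1⟩ :=
    hO.fromSpec.isOpenEmbedding.injective (hO.fromSpec_primeIdealOf ⟨y, hy⟩)
  have hprQ : pr W (x := y) hy = Q := congrArg PrimeSpectrum.asIdeal hq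
  have hyZ : y ∈ Z' := by
    show (⟨Q, hQ.1.1⟩ : PrimeSpectrum Γ(X, O)) ∈ hO.fromSpec ⁻¹' Z'
    rw [hs]; exact fun a ha => hQ.1.2 (Ideal.subset_span ha)
  have hdim := hcodim y hyZ fun z hz hzy => by
    have hzO : z ∈ O := hzy.mem_open O.2 hy
    have hle : pr W (x := z) hzO ≤ Q := hprQ ▸ pr_le_of_specializes W hy hzO hzy
    have hzmem : hO.primeIdealOf ⟨z, hzO⟩ ∈ PrimeSpectrum.zeroLocus s := by
      rw [← hs, Set.mem_preimage, hO.fromSpec_primeIdealOf ⟨z, hzO⟩]; exact hz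
    have hge : Q ≤ pr W (x := z) hzO := hQ.2 ⟨inferInstance, Ideal.span_le.mpr hzmem⟩ hle
    exact (hzy.antisymm (specializes_of_pr_le W (x := z) hzO hy (hprQ.le.trans hge))).eq
  refine hdim.trans ?_
  rw [ringKrullDim_stalk_eq W (x := y) hy, ringKrullDim_stalk_eq W (x := x) hxO, hprQ]
  exact_mod_cast Ideal.height_mono hQle

theorem maximalIdeal_mem_minimalPrimes {R : Type u} [CommRing R] [IsLocalRing R] (h : ringKrullDim R ≤ 0) :
    maximalIdeal R ∈ minimalPrimes R := by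
  rw [← Ideal.height_eq_zero_iff, ← nonpos_iff_eq_zero, ← WithBot.coe_le_coe,
    maximalIdeal_height_eq_ringKrullDim]
  exact h

theorem exists_divisorial_part [IsNoetherian X] (𝓩 : X.IdealSheafData)
    {I : Type u} (𝓓 : I → X.IdealSheafData) (hD : ∀ i, BlowUp.IsEffCartierIdeal (𝓓 i))
    (hDint : ∀ i, IsIntegral (𝓓 i).subscheme)
    (Z' : Set ↥X) (hZ' : IsClosed Z')
    (hcodim : ∀ z ∈ Z', (∀ y ∈ Z', y ⤳ z → y = z) → (2 : WithBot ℕ∞) ≤ ringKrullDim ↑(X.presheaf.stalk z))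
    (hcover : (𝓩.support : Set ↥X) ⊆ Z' ∪ ⋃ i, ((𝓓 i).support : Set ↥X)) :
    ∃ a : I →₀ ℕ, 𝓩 ≤ a.prod (fun i n => 𝓓 i ^ n) ∧
      ∃ U : X.Opens, (∀ x ∈ U, ∃ W : X.affineOpens, x ∈ W.1 ∧ W.1 ≤ U ∧
          (a.prod (fun i n => 𝓓 i ^ n)).ideal W = 𝓩.ideal W) ∧
        ∀ z ∈ (𝓩.support : Set ↥X) \ (U : Set ↥X),
          (2 : WithBot ℕ∞) ≤ ringKrullDim ↑(X.presheaf.stalk z) := by
  classical
  let η : I → X := fun i => eta (𝓓 i) (hDint i)
  have hηs : ∀ i, η i ∈ (𝓓 i).support := fun i => eta_mem_support _ _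
  have hfg : ∀ (J : X.IdealSheafData) (W : X.affineOpens), (J.ideal W).FG := fun J W => by
    have : IsNoetherianRing Γ(X, W.1) := IsLocallyNoetherian.component_noetherian W
    exact IsNoetherian.noetherian _
  -- points of dimension zero are not in the support
  have hzero : ∀ x : X, ringKrullDim (X.presheaf.stalk x) ≤ 0 → x ∉ 𝓩.support := by
    intro x hx0 hx
    rcases hcover hx with h | h
    · exact absurd ((two_le_of_mem Z' hZ' hcodim h).trans hx0) (by decide)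
    · obtain ⟨i, hi⟩ := Set.mem_iUnion.mp h
      obtain ⟨O, hO, hxO, -⟩ := exists_isAffineOpen_mem_and_subset (X := X) (x := x) (U := ⊤) trivial
      obtain ⟨π, hπ, hspan, -⟩ := exists_generator (𝓓 i) (hD i) ⟨O, hO⟩ hxO
      have hp := (stI_isPrime (𝓓 i) (hDint i) ⟨O, hO⟩ hxO hi).1
      rw [hspan] at hp
      exact Set.disjoint_left.mp (Ideal.disjoint_nonZeroDivisors_of_mem_minimalPrimes
        (maximalIdeal_mem_minimalPrimes hx0)) (le_maximalIdeal hp.ne_top (Ideal.mem_span_singleton_self π)) hπ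
  -- stalks at the generic points
  have hgen : ∀ i (W : X.affineOpens) (he : η i ∈ W.1),
      ringKrullDim (X.presheaf.stalk (η i)) ≤ 1 ∧ stI 𝓩 W he ≠ ⊥ := by
    intro i W he
    obtain ⟨π, hπ, hspan, -⟩ := exists_generator (𝓓 i) (hD i) W he
    have hm : maximalIdeal (X.presheaf.stalk (η i)) = Ideal.span {π} :=
      (stI_eta (𝓓 i) (hDint i) W he).symm.trans hspan
    have hdim : ringKrullDim (X.presheaf.stalk (η i)) ≤ 1 := by
      refine (ringKrullDim_le_spanFinrank_maximalIdeal _).trans ?_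
      rw [hm]
      exact_mod_cast (Submodule.spanFinrank_span_le_ncard_of_finite (Set.finite_singleton π)).trans
        (Set.ncard_singleton π).le
    refine ⟨hdim, fun hbot => ?_⟩
    obtain ⟨Q, hQ, hQle⟩ := Ideal.exists_minimalPrimes_le (bot_le : (⊥ : Ideal Γ(X, W.1)) ≤ pr W he)
    have := hQ.1.1
    let y : X := W.2.fromSpec ⟨Q, hQ.1.1⟩
    have hy : y ∈ W.1 := W.2.range_fromSpec.subset ⟨_, rfl⟩
    have hq : pr W (x := y) hy = Q := congrArg PrimeSpectrum.asIdeal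
      (W.2.fromSpec.isOpenEmbedding.injective (W.2.fromSpec_primeIdealOf ⟨y, hy⟩) :
        W.2.primeIdealOf ⟨y, hy⟩ = ⟨Q, hQ.1.1⟩)
    refine hzero y ?_ ((mem_support_iff_le 𝓩 W hy).mpr fun f hf => ?_)
    · rw [ringKrullDim_stalk_eq W (x := y) hy, hq, Ideal.height_eq_zero_iff.mpr hQ]
      rfl
    · have h0 : X.presheaf.germ W.1 _ he f ∈ (⊥ : Ideal Γ(X, W.1)).map (X.presheaf.germ W.1 _ he).hom := by
        rw [Ideal.map_bot, ← hbot]; exact Ideal.mem_map_of_mem _ hf
      obtain ⟨s, hs, hsf⟩ := (germ_mem_map_iff W he _ f).mp h0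
      rw [hq]
      exact (hQ.1.1.mem_or_mem ((Submodule.mem_bot Γ(X, W.1)).mp hsf ▸ Q.zero_mem)).resolve_left
        fun h => hs (hQle h)
  have hord : ∀ i, ∃ n : ℕ, ∀ (W : X.affineOpens) (he : η i ∈ W.1),
      stI 𝓩 W he = stI (𝓓 i) W he ^ n := by
    intro i
    obtain ⟨O, hO, heO, -⟩ := exists_isAffineOpen_mem_and_subset (X := X) (x := η i) (U := ⊤) trivial
    obtain ⟨π, -, hspan, -⟩ := exists_generator (𝓓 i) (hD i) ⟨O, hO⟩ heO
    obtain ⟨n, hn⟩ := exists_eq_span_pow ((stI_eta (𝓓 i) (hDint i) ⟨O, hO⟩ heO).symm.trans hspan)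
      (hgen i ⟨O, hO⟩ heO).2
    exact ⟨n, fun W he => by rw [stI_eq 𝓩 W ⟨O, hO⟩ he heO, stI_eq (𝓓 i) W ⟨O, hO⟩ he heO, hn, hspan,
      Ideal.span_singleton_pow]⟩
  choose ord hord using hord
  -- the finitely many relevant generic points
  obtain ⟨T, hT, hTcov⟩ := isCompact_iff_finite_and_eq_biUnion_affineOpens.mp
    (show IsCompact ((⊤ : X.Opens) : Set X) from isCompact_univ)
  have hfin : {e : X | e ∈ 𝓩.support ∧ ∃ i, η i = e}.Finite := by
    have hsub : {e : X | e ∈ 𝓩.support ∧ ∃ i, η i = e} ⊆ ⋃ W ∈ T,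
        (fun P : PrimeSpectrum Γ(X, (W : X.affineOpens).1) => (W.2.fromSpec P : X)) ''
          (PrimeSpectrum.asIdeal ⁻¹' (𝓩.ideal W).minimalPrimes) := by
      rintro _ ⟨hs, i, rfl⟩
      obtain ⟨W, hW, heW⟩ : ∃ W ∈ T, η i ∈ (W : X.affineOpens).1 := by
        have h : η i ∈ (⊤ : X.Opens) := trivial
        simp only [hTcov, TopologicalSpace.Opens.mem_iSup] at h
        obtain ⟨W, hW, h⟩ := h
        exact ⟨W, hW, h⟩
      refine Set.mem_biUnion hW ⟨W.2.primeIdealOf ⟨η i, heW⟩, ⟨⟨inferInstance, (mem_support_iff_le 𝓩 W heW).mp hs⟩,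
        fun Q ⟨hQp, hQI⟩ hQle => ?_⟩, W.2.fromSpec_primeIdealOf ⟨η i, heW⟩⟩
      by_contra hne
      have hlt : Q < pr W heW := lt_of_le_not_ge hQle hne
      let y : X := W.2.fromSpec ⟨Q, hQp⟩
      have hy : y ∈ W.1 := W.2.range_fromSpec.subset ⟨_, rfl⟩
      have hq : pr W (x := y) hy = Q := congrArg PrimeSpectrum.asIdeal
        (W.2.fromSpec.isOpenEmbedding.injective (W.2.fromSpec_primeIdealOf ⟨y, hy⟩) :
          W.2.primeIdealOf ⟨y, hy⟩ = ⟨Q, hQp⟩)
      refine hzero y ?_ ((mem_support_iff_le 𝓩 W hy).mpr (hq ▸ hQI))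
      have h1 := (hgen i W heW).1
      rw [ringKrullDim_stalk_eq W heW] at h1
      rw [ringKrullDim_stalk_eq W (x := y) hy, hq]
      have : IsNoetherianRing Γ(X, W.1) := IsLocallyNoetherian.component_noetherian W
      have hh : Q.height < (pr W heW).height := Ideal.height_strict_mono_of_isPrime hlt
      have h1' : (pr W heW).height ≤ 1 := WithBot.coe_le_coe.mp h1
      exact (WithBot.coe_eq_zero.mpr (Order.lt_one_iff.mp (hh.trans_le h1'))).le
    refine (hT.biUnion fun W _ => ?_).subset hsub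
    have : IsNoetherianRing Γ(X, (W : X.affineOpens).1) := IsLocallyNoetherian.component_noetherian W
    exact ((Ideal.finite_minimalPrimes_of_isNoetherianRing _ _).preimage
      (fun P _ P' _ h => PrimeSpectrum.ext h)).image _
  let E : Finset X := hfin.toFinset
  let rep : {e // e ∈ E} → I := fun e => (hfin.mem_toFinset.mp e.2).2.choose
  have hrep : ∀ e, η (rep e) = e.1 := fun e => (hfin.mem_toFinset.mp e.2).2.choose_spec
  let J : Finset I := E.attach.image rep
  have hJ : ∀ i ∈ J, ∀ k ∈ J, η i = η k → i = k := by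
    intro i hi k hk h
    obtain ⟨e, -, rfl⟩ := Finset.mem_image.mp hi
    obtain ⟨e', -, rfl⟩ := Finset.mem_image.mp hk
    rw [hrep, hrep] at h
    rw [Subtype.ext h]
  let a : I →₀ ℕ := Finsupp.indicator J fun i _ => ord i
  have hprod : a.prod (fun i n => 𝓓 i ^ n) = ∏ i ∈ J, 𝓓 i ^ ord i := by
    rw [Finsupp.prod_of_support_subset a (Finsupp.support_indicator_subset _ _) _ fun i _ => pow_zero _]
    exact Finset.prod_congr rfl fun i hi => by rw [Finsupp.indicator_of_mem hi]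
  have hideal : ∀ W : X.affineOpens, (a.prod fun i n => 𝓓 i ^ n).ideal W = ∏ i ∈ J, (𝓓 i).ideal W ^ ord i := by
    intro W
    rw [hprod]
    clear_value J
    clear hprod hJ
    induction J using Finset.induction_on with
    | empty => simp
    | insert k J hk ih =>
      rw [Finset.prod_insert hk, Finset.prod_insert hk, Scheme.IdealSheafData.ideal_mul, Pi.mul_apply, ih,
        Scheme.IdealSheafData.ideal_pow, Pi.pow_apply]
  have hst : ∀ (W : X.affineOpens) {x : X} (hx : x ∈ W.1),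
      stI (a.prod fun i n => 𝓓 i ^ n) W hx = ∏ i ∈ J, stI (𝓓 i) W hx ^ ord i := fun W x hx => by
    rw [stI, hideal]
    refine (map_prod (Ideal.mapHom (X.presheaf.germ W.1 x hx).hom) _ J).trans ?_
    exact Finset.prod_congr rfl fun i _ => Ideal.map_pow _ _ _
  have htop : ∀ i (W : X.affineOpens) {x : X} (hx : x ∈ W.1), x ∉ (𝓓 i).support → stI (𝓓 i) W hx = ⊤ :=
    fun i W x hx hn => by
      obtain ⟨π, -, hspan, hu⟩ := exists_generator (𝓓 i) (hD i) W hx
      rw [hspan, Ideal.span_singleton_eq_top]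
      exact hu hn
  have hle : 𝓩 ≤ a.prod fun i n => 𝓓 i ^ n := fun W => by
    refine ideal_le_of_stI _ _ W fun x hx => ⟨W, hx, ?_⟩
    rw [hst, ← Finset.prod_filter_of_ne (p := fun i => x ∈ (𝓓 i).support) (fun i _ hne => by
      by_contra hn
      exact hne (by rw [htop i W hx hn, Ideal.top_pow, Ideal.one_eq_top]))]
    choose π hπ hspan hu using fun i => exists_generator (𝓓 i) (hD i) W hx
    rw [Finset.prod_congr rfl (fun i _ => by rw [hspan i, Ideal.span_singleton_pow]), Ideal.prod_span_singleton]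
    refine Ideal.map_le_iff_le_comap.mpr fun g hg => ?_
    refine mem_span_prod_of_local _ π ord (fun j _ => hπ j) ?_ ?_ _ ?_
    · intro j hj
      rw [← hspan j]
      exact (stI_isPrime (𝓓 j) (hDint j) W hx (Finset.mem_filter.mp hj).2).1
    · intro j hj k hk hjk hmem
      obtain ⟨hjJ, hjs⟩ := Finset.mem_filter.mp hj
      obtain ⟨hkJ, hks⟩ := Finset.mem_filter.mp hk
      obtain ⟨hpj, hcj⟩ := stI_isPrime (𝓓 j) (hDint j) W hx hjs
      obtain ⟨hpk, hck⟩ := stI_isPrime (𝓓 k) (hDint k) W hx hks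
      rw [hspan j] at hpj hcj
      rw [hspan k] at hpk hck
      have heq := eq_of_span_le (hπ k) hpk (fun hu' => hpj.ne_top (Ideal.span_singleton_eq_top.mpr hu'))
        ((Ideal.span_singleton_le_iff_mem _).mpr hmem)
      have hP : (𝓓 k).ideal W = (𝓓 j).ideal W := by rw [← hck, ← hcj, heq]
      have hej := eta_mem (𝓓 j) (hDint j) hx hjs
      have hek := eta_mem (𝓓 k) (hDint k) hx hks
      have hpr : pr W hej = pr W hek := by rw [pr_eta, pr_eta, hP]
      exact hjk (hJ j hjJ k hkJ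
        ((specializes_of_pr_le W hek hej hpr.le).antisymm (specializes_of_pr_le W hej hek hpr.ge)).eq)
    · intro j hj
      obtain ⟨-, hjs⟩ := Finset.mem_filter.mp hj
      have hej := eta_mem (𝓓 j) (hDint j) hx hjs
      have h1 : X.presheaf.germ W.1 _ hej g ∈
          ((𝓓 j).ideal W ^ ord j).map (X.presheaf.germ W.1 _ hej).hom := by
        rw [Ideal.map_pow]
        exact (hord j W hej).le (Ideal.mem_map_of_mem _ hg)
      obtain ⟨s, hs, hsg⟩ := (germ_mem_map_iff W hej _ g).mp h1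
      rw [pr_eta (𝓓 j) (hDint j) W hej] at hs
      refine ⟨X.presheaf.germ W.1 x hx s, fun h => hs ?_, ?_⟩
      · rw [← (stI_isPrime (𝓓 j) (hDint j) W hx hjs).2, hspan j]
        exact h
      · rw [← map_mul, ← Ideal.span_singleton_pow, ← hspan j, stI, ← Ideal.map_pow]
        exact Ideal.mem_map_of_mem _ hsg
  refine ⟨a, hle, sSup {V : X.Opens | ∃ hV : IsAffineOpen V,
      (a.prod fun i n => 𝓓 i ^ n).ideal ⟨V, hV⟩ = 𝓩.ideal ⟨V, hV⟩}, fun x hx => ?_, fun z hz => ?_⟩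
  · obtain ⟨V, ⟨hV, heq⟩, hxV⟩ := TopologicalSpace.Opens.mem_sSup.mp hx
    exact ⟨⟨V, hV⟩, hxV, le_sSup (show V ∈ {V : X.Opens | ∃ hV : IsAffineOpen V,
      (a.prod fun i n => 𝓓 i ^ n).ideal ⟨V, hV⟩ = 𝓩.ideal ⟨V, hV⟩} from ⟨hV, heq⟩), heq⟩
  · obtain ⟨hzs, hzU⟩ := hz
    by_contra hdim
    have hd1 : ringKrullDim (X.presheaf.stalk z) ≤ 1 := by
      obtain ⟨O, hO, hzO, -⟩ := exists_isAffineOpen_mem_and_subset (X := X) (x := z) (U := ⊤) trivial
      rw [ringKrullDim_stalk_eq ⟨O, hO⟩ hzO] at hdim ⊢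
      have h2 : ¬ ((2 : ℕ∞) ≤ (pr ⟨O, hO⟩ hzO).height) := fun h => hdim (WithBot.coe_le_coe.mpr h)
      exact WithBot.coe_le_coe.mpr (Order.le_of_lt_succ (not_le.mp h2))
    rcases hcover hzs with h | h
    · exact hdim (two_le_of_mem Z' hZ' hcodim h)
    obtain ⟨i, hi⟩ := Set.mem_iUnion.mp h
    obtain ⟨O, hO, hzO, -⟩ := exists_isAffineOpen_mem_and_subset (X := X) (x := z) (U := ⊤) trivial
    let W : X.affineOpens := ⟨O, hO⟩
    obtain ⟨π, hπ, hspan, -⟩ := exists_generator (𝓓 i) (hD i) W (x := z) hzO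
    obtain ⟨hp, hc⟩ := stI_isPrime (𝓓 i) (hDint i) W (x := z) hzO hi
    have hmax : (stI (𝓓 i) W (x := z) hzO).IsMaximal :=
      (Ring.krullDimLE_one_iff.mp (Ring.krullDimLE_iff.mpr hd1) _ hp).resolve_left fun hmin =>
        Set.disjoint_left.mp (Ideal.disjoint_nonZeroDivisors_of_mem_minimalPrimes hmin)
          (hspan ▸ Ideal.mem_span_singleton_self π) hπ
    have hzη : η i = z := by
      have he := eta_mem (𝓓 i) (hDint i) (W := W) hzO hi
      have hpr : pr W (x := z) hzO = pr W he := by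
        rw [pr_eta (𝓓 i) (hDint i) W he, ← hc, eq_maximalIdeal hmax]
        letI := TopCat.Presheaf.algebra_section_stalk X.presheaf (⟨z, hzO⟩ : W.1)
        haveI : IsLocalization.AtPrime (X.presheaf.stalk z) (pr W (x := z) hzO) := W.2.isLocalization_stalk ⟨z, hzO⟩
        exact (IsLocalization.AtPrime.under_maximalIdeal (X.presheaf.stalk z) (pr W (x := z) hzO)).symm
      exact ((specializes_of_pr_le W (x := z) hzO he hpr.ge).antisymm (specializes_of_pr_le W he hzO hpr.le)).eq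
    subst hzη
    obtain ⟨e, he⟩ : ∃ e : {e // e ∈ E}, e.1 = η i := ⟨⟨η i, hfin.mem_toFinset.mpr ⟨hzs, i, rfl⟩⟩, rfl⟩
    have hkJ : rep e ∈ J := Finset.mem_image_of_mem _ (Finset.mem_attach _ e)
    have hk : η (rep e) = η i := (hrep e).trans he
    have hDk : 𝓓 (rep e) = 𝓓 i := eq_of_eta_eq _ (hDint _) _ (hDint i) hk
    have hstalk : stI (a.prod fun i n => 𝓓 i ^ n) W (x := η i) hzO = stI 𝓩 W hzO := by
      rw [hst, Finset.prod_eq_single_of_mem (rep e) hkJ fun j hj hne => ?_]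
      · have h1 : ∀ (y : X), y = η i → ∀ (n : ℕ), (∀ hy : y ∈ W.1, stI 𝓩 W hy = stI (𝓓 (rep e)) W hy ^ n) →
            stI (𝓓 (rep e)) W (x := η i) hzO ^ n = stI 𝓩 W hzO := by
          rintro y rfl n hy
          exact (hy hzO).symm
        exact h1 _ hk _ (fun hy => hord (rep e) W hy)
      · rw [htop j W hzO fun hjs => hne (hJ j hj (rep e) hkJ ?_), Ideal.top_pow, Ideal.one_eq_top]
        rw [hk]
        obtain ⟨πi, hπi, hspani, -⟩ := exists_generator (𝓓 i) (hD i) W (x := η i) hzO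
        obtain ⟨πj, hπj, hspanj, -⟩ := exists_generator (𝓓 j) (hD j) W (x := η i) hzO
        obtain ⟨hpj, hcj⟩ := stI_isPrime (𝓓 j) (hDint j) W (x := η i) hzO hjs
        rw [hspanj] at hpj hcj
        have hlej : Ideal.span ({πj} : Set _) ≤ Ideal.span {πi} := by
          rw [← hspani, stI_eta (𝓓 i) (hDint i) W hzO]
          exact le_maximalIdeal hpj.ne_top
        have heq := eq_of_span_le hπj hpj (fun hu => (stI_isPrime (𝓓 i) (hDint i) W (x := η i) hzO (hηs i)).1.ne_top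
          (by rw [hspani]; exact Ideal.span_singleton_eq_top.mpr hu)) hlej
        have hP : (𝓓 j).ideal W = (𝓓 i).ideal W := by
          rw [← hcj, ← (stI_isPrime (𝓓 i) (hDint i) W (x := η i) hzO (hηs i)).2, heq, hspani]
        have hej : η j ∈ W.1 := eta_mem (𝓓 j) (hDint j) (W := W) hzO hjs
        have hpr : pr W (x := η j) hej = pr W (x := η i) hzO := by rw [pr_eta, pr_eta, hP]
        exact ((specializes_of_pr_le W hzO hej hpr.le).antisymm (specializes_of_pr_le W hej hzO hpr.ge)).eq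
    apply hzU
    letI := TopCat.Presheaf.algebra_section_stalk X.presheaf (⟨η i, hzO⟩ : W.1)
    haveI : IsLocalization.AtPrime (X.presheaf.stalk (η i)) (pr W (x := η i) hzO) :=
      W.2.isLocalization_stalk ⟨η i, hzO⟩
    obtain ⟨s, hs, hsI⟩ := exists_mul_le (S := X.presheaf.stalk (η i)) (pr W (x := η i) hzO) (hfg _ W)
      (I := 𝓩.ideal W) (K := (a.prod fun i n => 𝓓 i ^ n).ideal W) hstalk.le
    refine TopologicalSpace.Opens.mem_sSup.mpr ⟨X.basicOpen s, ⟨W.2.basicOpen s, le_antisymm ?_ (hle _)⟩,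
      (WeakAssLib.mem_primeIdealOf W.2 hzO s).mpr hs⟩
    rw [← Scheme.IdealSheafData.map_ideal _ (U := ⟨X.basicOpen s, W.2.basicOpen s⟩) (V := W) (X.basicOpen_le s),
      ← Scheme.IdealSheafData.map_ideal 𝓩 (U := ⟨X.basicOpen s, W.2.basicOpen s⟩) (V := W) (X.basicOpen_le s),
      Ideal.map_le_iff_le_comap]
    intro g hg
    show (X.presheaf.map (homOfLE (X.basicOpen_le s)).op).hom g ∈
      (𝓩.ideal W).map (X.presheaf.map (homOfLE (X.basicOpen_le s)).op).hom
    refine (Ideal.unit_mul_mem_iff_mem _ (RingedSpace.isUnit_res_basicOpen _ s)).mp ?_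
    exact (map_mul (X.presheaf.map (homOfLE (X.basicOpen_le s)).op).hom s g) ▸
      Ideal.mem_map_of_mem _ (hsI g hg)

end Groth.Agent.DivPart
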